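import Cfsg.Agent.H707.Odd.He
import Cfsg.Agent.H710.R4.Sph_m3
import Cfsg.Agent.HeldHe.Model
import Cfsg.Agent.H90.R4.Prime_m3
import Cfsg.Agent.H722.RealP
import Cfsg.Agent.H636.Gow.Defs_m3
import Cfsg.Agent.H809.RealB0.Common
import Cfsg.Agent.KFacts.He.Outer
import Cfsg.Agent.Held.HeldCardEq_m3
import Cfsg.Agent.FastGrp
import Cfsg.Agent.Prune
set_option linter.all false

section
prune_inst 0x7f00000000000000000000000000000000000000000000000000000000000000000000000000000000000000000000000000000000000000000000000000000000000000000000000000000000000000003fffffffffffffffffffffffffffbeffbdffffffff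

-- part: H710/R4/HeT
section
set_option linter.all false
open scoped Cfsg.Agent.FastGrp

-- part: H710/R4/CharHe
section
/-!
# The rational character of degree 1275 of the Held group
-/

set_option autoImplicit false
set_option maxRecDepth 100000

namespace Cfsg.Agent.H710.R4

open Cfsg Cfsg.Spor Cfsg.Spor.He Cfsg.Agent.SporadicB.HePerm Cfsg.Agent.H636.Gow Cfsg.Agent.H707.Odd
open Cfsg.Agent.S1683 (K_eq_St St map_K exists_map_zero word_mem)
open Cfsg.Agent.H707.Odd.He

attribute [local instance] Cfsg.Agent.H707.Odd.He.instActHe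

theorem irr_He : ∃ χ : Cfsg.Spor.He → ℂ, IsIrrCharacter Cfsg.Spor.He χ ∧ (∀ g, ∃ q : ℚ, χ g = q) ∧
    χ 1 = (1275 : ℕ) := by
  obtain ⟨hfin, -⟩ := Cfsg.Agent.SporadicB.HeUpper.card_he_le
  refine Sph.irr_of_orbital (0 : Fin 2058) cls r ?_ ?_ 3 (fun i => wd (w i)) w_smul B hB a (-4) hBa ?_ ?_ ?_ k hk 1275
    ?_
  · intro g hg x
    have h1 := mem_K hg
    rw [map_K] at h1
    exact Fin.ext (lab_closure h1 x)
  · intro x
    obtain ⟨p, hp, hpx⟩ := reach_sub (lab x) (lab_lt x) (S1683.K.map phi) (fun w hw => word_mem hw) x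
      ((mem_sub _ (lab_lt x) x).2 rfl)
    obtain ⟨g, hg, rfl⟩ := hp
    refine ⟨g, ?_, ?_⟩
    · rw [SetLike.mem_coe, K_eq_St] at hg
      exact hg
    · rw [smul_eq, ← root_eq]
      exact hpx
  · intro a' h i
    rw [cls_zero]
    exact huniq a' h i
  · rw [cls_zero]
    rfl
  · intro x y
    obtain ⟨g, hg⟩ := exists_map_zero x
    obtain ⟨h, hh⟩ := exists_map_zero y
    refine ⟨h * g⁻¹, ?_⟩
    rw [mul_smul, smul_eq h, ← hg, ← smul_eq g, inv_smul_smul]
    exact hh
  · rw [Fintype.card_fin]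
    exact_mod_cast hsum

end Cfsg.Agent.H710.R4
end

-- part: H710/R4/HeT
section
/-!
# The Held group: an outer automorphism as a permutation of the 2058 points (helper710, for S4554)

`T` interchanges the ten letters `0 ↔ 1`, `2 ↔ 5`, `3 ↔ 4`, `6 ↔ 8`, `7 ↔ 9`. `A = phi(He) ∪ T phi(He)`.
-/

set_option autoImplicit false
set_option maxRecDepth 100000

namespace Cfsg.Agent.H710.R4.HeT

open Cfsg Cfsg.Spor Cfsg.Spor.He Cfsg.Agent.SporadicB.HePerm
open Cfsg.Agent.HeldHe.Model (W V L0 closure_L0 phi_inj)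
open Cfsg.Agent.H707.Odd.He

/-- the table of `T` -/
def tT : ℕ := 0x46d6c20f87bf1de12e3f64e150842910e71d5e529e1d605c3a54e26984c85b61a95e42e81ad0b672279325a41a7d70f604f36b22f0d50635151003424f467c71906541136d1d774d0477b67eb2226cb4af1555ed5a72584c957d75d4a57c85282827cb33a3027953162dc14a2906318066df03c56a46f20873f7671b47d835a74e7a75406be6006420c06525013400a500d5777b317024964a07045250244f6dd3ba4c42ec5b940a2d477260739a7c52707ee2516fa54634e4f06fc42342e54846b1ef5640545315d94ee0d92f41795f707948c28a47523b25c03918b18457e1924be7983da27713e4bc5bb3d948f1093fa3b57b85b543c35e2f26582b32a35fb1e97cd42f2b804a05a2a26505813d64583f94b25ba0552407b47da29512226b4bb2c557f3554e75f829871a3592007b904c57b2316a918063767e46201943551b2233fc6f405e30849d1f44bd1df15705934942417d71e5a05cb7ef4da1ca4f67257fe7110987427df1ed6f341821b4d231d70971c3652fe4161e73b21cc6f57121a06935752cd18f6d26dc41232b5b23516f678d59d7910120a81726fd70a73171769653b25f6671d115816c1f953653e2fa28f5e655c5956453981022657be6b079f70262b37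40a340e27419a1a10713927034b601451c52f1680997d54855e902b1384df44a1562e98086a514f2ca7b13805bf0745521a73063840441631e44544944256de4435fd1e65555c334d73b67165924c6c14dd6631972f31303dd1fa5be47c1291c017e7f71a66f207e35670716448209a55d14500f07a50f4ba5911610935164b049e57133639b3640297383837e04c343034c0bd6123311bd0531234396a83dc6661351c15dc2265e36230e46ef66f2d81e06a35371fb3821195d048921e0fb5b76a776245538b5e13de16b7ad40b75723a53545103e5c67a408735b1031c66e32784b57af44108a39e1d85ec0e74a740f6220c273913919e4f13b45ff7c04f341315c0022e06db05b4e52d046a5333635f366963918d3781f719543320349713145601e02804004800538a6776084483bd0e649150e21f5e818161179706a45d49a49b0960dd7b06323c86ae0ce75f24b4bf74477f4f91045836242252a91be28538e7d263d4d70f16c960a1b26e67fd7f366a5ab6553ee0fa1ae34366c48d20278452b09417314624d26d5623bc65e3004955664107234a81011a315364b2073576ab00603a2396bc69d2d731a76d75179b21d65a7f576649f0e36ff4c53e04882923c10105e213709719f7d12df48114355926c47e7240fe5736fb3f22751425103703712296e443d15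f3b86891e21070cf57240c3a146e1a837a56131735d43a5f44467564967477757ce37f73d19d1863f07a816970621459e58d68335209c5655492ea45c7bc0855292f95cd56e7873965d258754704e1c968f6e543231c5a33724492506ac32e3586ba1d020b26f3120f521900c37356d78a56079011732a33c0ed4447b22186e936844d6f128420124e6626ea64e3c76263897854276ce13d52c52d5d82b45687ca4453ae2421f850511e0624644703b10276cf73430b3f42cf37d6867e400751251311b59968b60c4ae16e4770043e18012883e35230450d77a17ac1cb1524f23eb2c145b3505f645f20971f01f7e16304fe63478e02d7834632614b81c708c0b87452de6291cf01a7f88023306c60ba6a40ae1c47210b71255eb1540230333327142ab1330ac3f73ed4931aa4a37cf7f608e12d5b179d67b1dc3d01b35f977372c76e74968a00e4eb37b6d164333b2447523196857d450d0cc1593752eb0915ca63b39d7cc3c94ca39f3153a25b468472e41b60360441d14b61b5805ce6b24cc0e860d26976b26e5db77d3181b565d5af0bc1d96ca01841e6915a51601c85a119369c08b3a63bf39750b21177b3113480b402651f7bb58a8093ab7896272670460a71f63f85204ed73727a3414f826060556b4fb30e2ed7543956196576b330a7a264d1bf7a021c53c00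92ce6c55576100bf5825275416af21a64132f35c2165947651165846721dd0ca2667352b661d55b0c467a75c78b4264152fd1498000df53042d6b172778c4023252ae09e4834993c349c7ec37671631470e42c0a462f7017dd5cc63a6d82e558c65179a0221c21112ee0ef07610a4221e33ac3e62643357321877697534654ce8030fd5192a159c3045781505e04cd3b04fd0210be28125d3ff1c32c45060305095b03a965469f6700aa77176c30d17b7552d61b72043440564c117618e1271a229d2934a45fe53416d23213241c37e5ad22047931e60f5d112079e05159205701676863338d70c51e3ec2995262a440046c0243df19009047a7f903d0864a058b2484a263f4a62bc6817961856e247856345722c2056d318338f3905ee3b31e86566135322521102891f16b767d6602e36bd57c3c251713b4b75880ea6201ac4194ab6da54a5585975980a63627dc3337e82c021753d2d532471068062536e10b17108176458543f6487b57415535c46947462c317f5706fe4fa09278f6aa67909d14472847315a06b1c53d25dd7e24607ab29c18c12a5434b47c705f17728d6823fd18936c4d36764e044055407722770054405227e0da0db4213662b031f02c1a53223be71355a1345bc4b148b5867c44a141708d54e4742cb2a845a3d813f51a4531fe72f12f6b809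f3f10157c61665cf06470f42b0a01626e85672350611142877816a176303f08924340645979c4aa56c6c37f215b03140d06c3812e12e262c5a64e61157c311a02e11f6655bd3d53677991d212425962851844b70506d3106bf1af04b1ab0cd7483e435414c4fc36a22b1b622d39c0730c303475b00a43418252a7612621b93232a04201e10c14d10cb5f130f23307d2473ad7607583f32af1367fc3cb33f02023e3af7431470b974c1e53ca5ae1b87c16e70173370f70ff77c3865072f519b5ef53a1ce7c93e820c2123280f902a19146116764477024f59b6d725b0d00b079454f48e5d35a274a1084901414694366e03fe2102b24ec45e6f01133e77792737ed2d17d010c11d05820d0783887925562765385d46a65fa1b07a53a02a50dc1964b32ef52503774f19c29a1060f077a64f5c020f0690802f81da2a73c573c20a7e718a2bd3942bf06859612c32c66b5f20b57337d604d3c060b65c5b844e71544254c53f36943e0ee5740ad27f4762632381cd2542805502304f77ba5c51213933d361c5da5397401ec3091f51b166169e6eb52461f4661fd72d01c17438516f7880367181ff0d40c775e38c70d6ad2946b44015902ad66472b8054384c206723448663e7db7fb09b1280082d36ee5514e428320e70b50072055e47f4ea6463454db3e540866d69a4505f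06750a90f413a2b12913d42be48a7b74c05e71fc24a2c95de7f13772c74cb7f45896b969732013c5c83cc6d57085a863557a23f2866d60831516a224561e0b347d77427b3a87043ce62133e77722e33401d3fb5793997763912b560973a35369972606f3d70d37800323383cf0c51f25d66f73607a61f050c3c66ec65307f5766cd2793010c66926b52fb6884805930500af62e2e73474ac6ed72a6c47d34d65c74ff1983ef6c00c90b12c24987c242a0d62975d568e34a5a459a2680a230c76f52e1a437c1ba6366c75aa29f66e31b4d03c461a6a03078044c622812633d69b1d43cd12b4d82d267374b2063bb2d95222560e25112db65f03b54543b2dd2f625e0384073870d87ff0f325736140376a26a58f23d0b25f56476e15c97e328b59f3f504265b5df27d80728c7ea54d1bb10d01b5ea23c40521554206605d37908849263c60e0e06685b311c07b0e542800360124632632778210f5031487e61eb17a04306e27258e5fc2c64ad2aa43714e0251ea1651754312ba6382ac7ae4473e96784870494de2964e84d97f022447219410514d27115d4dc2134cf00b3db1bc6f846736f7aa4146d91400012fc30541f34b56f1d56906cc71b5a96020755d768734f4a93a70604c73134e947b6402f00e96493a356903519907235f23616a6952a60000e168c77e25332d4040956bb2bb0826d47a317c0d12cc2e434660623722a1db0ec7de2ff7e55212f708f3397300eb7fa62a7597292553b73d17507866743293b915e7e955f22173e2c875a0bb6157d94685046b60d20fc0136162f164c3a47bd1185c17781122411ee0842b94d41782e63e20112da4ef3216c827c67f61751d4710c83aa4d54093ea29b4f56181881f30f24e373648428e3b63036d00416f902f5ac68d4b97a954b0ab2b744c1d35145c261450a0de62d0a107c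

theorem T_check : allBelow 2058 (fun i => and (Nat.blt (look tT i) 2058) (Nat.beq (look tT (look tT i)) i)) = true := by
  decide +kernel

/-- `T` interchanges the letters `n` and `m` -/
def chk (n m : ℕ) : Bool := allBelow 2058 fun i => Nat.beq (look tT (act (W n) i)) (act (W m) (look tT i))

theorem c01 : chk 0 1 = true := by decide +kernel
theorem c25 : chk 2 5 = true := by decide +kernel
theorem c34 : chk 3 4 = true := by decide +kernel
theorem c68 : chk 6 8 = true := by decide +kernel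
theorem c79 : chk 7 9 = true := by decide +kernel

theorem T_lt {i : ℕ} (hi : i < 2058) : look tT i < 2058 := by
  have h := of_allBelow T_check i hi
  rw [Bool.and_eq_true] at h
  exact Nat.le_of_ble_eq_true h.1

theorem T_T {i : ℕ} (hi : i < 2058) : look tT (look tT i) = i := by
  have h := of_allBelow T_check i hi
  rw [Bool.and_eq_true] at h
  exact Nat.eq_of_beq_eq_true h.2

/-- the outer automorphism as a permutation -/
def T : Equiv.Perm (Fin 2058) where
  toFun i := ⟨look tT i, T_lt i.2⟩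
  invFun i := ⟨look tT i, T_lt i.2⟩
  left_inv i := Fin.ext (T_T i.2)
  right_inv i := Fin.ext (T_T i.2)

theorem T_apply (i : Fin 2058) : ((T i : Fin 2058) : ℕ) = look tT i := rfl

theorem T_mul_self : T * T = 1 := Equiv.ext fun i => Fin.ext (T_T i.2)

theorem T_inv : T⁻¹ = T := inv_eq_of_mul_eq_one_right T_mul_self

theorem T_conj {n m : ℕ} (h : chk n m = true) : T * phi (L0 n) * T⁻¹ = phi (L0 m) := by
  rw [mul_inv_eq_iff_eq_mul]
  apply Equiv.ext
  intro i
  apply Fin.ext
  rw [Equiv.Perm.mul_apply, Equiv.Perm.mul_apply, T_apply]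
  have e1 : ((phi (L0 n) i : Fin 2058) : ℕ) = act (W n) i := phi_wd_apply (W n) i
  have e2 : ((phi (L0 m) (T i) : Fin 2058) : ℕ) = act (W m) (look tT i) := phi_wd_apply (W m) (T i)
  rw [e1, e2]
  exact Nat.eq_of_beq_eq_true (of_allBelow h i i.2)

theorem T_conj' {n m : ℕ} (h : chk n m = true) : T * phi (L0 m) * T⁻¹ = phi (L0 n) := by
  have h1 := T_conj h
  rw [← h1, T_inv]
  calc T * (T * phi (L0 n) * T) * T = (T * T) * phi (L0 n) * (T * T) := by group
    _ = phi (L0 n) := by rw [T_mul_self, one_mul, mul_one]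

theorem T_letter (n : ℕ) (hn : n < 10) : ∃ m, T * phi (L0 n) * T⁻¹ = phi (L0 m) := by
  interval_cases n
  · exact ⟨1, T_conj c01⟩
  · exact ⟨0, T_conj' c01⟩
  · exact ⟨5, T_conj c25⟩
  · exact ⟨4, T_conj c34⟩
  · exact ⟨3, T_conj' c34⟩
  · exact ⟨2, T_conj' c25⟩
  · exact ⟨8, T_conj c68⟩
  · exact ⟨9, T_conj c79⟩
  · exact ⟨6, T_conj' c68⟩
  · exact ⟨7, T_conj' c79⟩

theorem T_norm' (g : Cfsg.Spor.He) : T * phi g * T⁻¹ ∈ phi.range := by
  have hg : g ∈ Subgroup.closure (L0 '' {n | n < 10}) := by rw [closure_L0]; exact Subgroup.mem_top g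
  induction hg using Subgroup.closure_induction with
  | mem x hx =>
    obtain ⟨n, hn, rfl⟩ := hx
    obtain ⟨m, hm⟩ := T_letter n hn
    exact ⟨L0 m, hm.symm⟩
  | one => rw [map_one, mul_one, mul_inv_cancel]; exact one_mem _
  | mul x y _ _ hx hy =>
    have h : T * phi (x * y) * T⁻¹ = (T * phi x * T⁻¹) * (T * phi y * T⁻¹) := by rw [map_mul]; group
    rw [h]
    exact mul_mem hx hy
  | inv x _ hx =>
    have h : T * phi x⁻¹ * T⁻¹ = (T * phi x * T⁻¹)⁻¹ := by rw [map_inv]; group
    rw [h]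
    exact inv_mem hx

theorem T_norm {p : Equiv.Perm (Fin 2058)} (hp : p ∈ phi.range) : T * p * T ∈ phi.range := by
  obtain ⟨g, rfl⟩ := hp
  have h := T_norm' g
  rwa [T_inv] at h

/-- the word of an element with `124 ↦ 0` -/
def ui : List Gen := [.b, .c, .d, .c, .b, .d, .g, .f, .d, .c, .g]

/-- the element of the stabiliser of `0` interchanging two orbits -/
noncomputable def q : Equiv.Perm (Fin 2058) := phi (wd ui) * T

theorem q_apply (i : Fin 2058) : ((q i : Fin 2058) : ℕ) = act ui (look tT i) := phi_wd_apply ui (T i)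

theorem q_zero : q 0 = 0 := by
  apply Fin.ext
  rw [q_apply]
  exact Nat.eq_of_beq_eq_true (by decide +kernel : Nat.beq (act ui (look tT ((0 : Fin 2058) : ℕ))) ((0 : Fin 2058) : ℕ) = true)

theorem q_37 : lab (q (r 3)) = 4 := by
  have h : labN (q (r 3) : Fin 2058) = lab (q (r 3)) := rfl
  rw [← h, q_apply]
  exact Nat.eq_of_beq_eq_true (by decide +kernel : Nat.beq (labN (act ui (look tT 37))) 4 = true)

theorem lab_r3 : lab (r 3) = 3 := by
  exact Nat.eq_of_beq_eq_true (by decide +kernel : Nat.beq (labN 37) 3 = true)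

theorem lab_of_fix {p : Equiv.Perm (Fin 2058)} (hp : p ∈ phi.range) (h0 : p 0 = 0) (i : Fin 2058) :
    lab (p i) = lab i := by
  obtain ⟨g, rfl⟩ := hp
  have h1 := mem_K (g := g) h0
  rw [S1683.map_K] at h1
  exact lab_closure h1 i

theorem T_not_mem : T ∉ phi.range := by
  intro h
  have h1 : q ∈ phi.range := mul_mem ⟨_, rfl⟩ h
  have h2 := lab_of_fix h1 q_zero (r 3)
  rw [q_37, lab_r3] at h2
  exact absurd h2 (by decide)

end Cfsg.Agent.H710.R4.HeT
end
end

-- part: H710/R4/OutTwo
section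
set_option linter.all false
open scoped Cfsg.Agent.FastGrp

/-!
# Almost simple groups of index two are unique if `|Out S| ≤ 2` (helper710, for S4554)
-/

set_option autoImplicit false

namespace Cfsg.Agent.H710.R4

open Subgroup

universe u v w

section

variable {S : Type w} [Group S] {G : Type u} [Group G] (N : Subgroup G) [N.Normal] (e : S ≃* N)

/-- the action on the simple group -/
def toAut : G →* MulAut S := (MulAut.congr e.symm).toMonoidHom.comp (MulAut.conjNormal : G →* MulAut N)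

theorem toAut_apply (g : G) (s : S) : (e (toAut N e g s) : G) = g * e s * g⁻¹ := by
  have h : toAut N e g s = e.symm (MulAut.conjNormal g (e s)) := rfl
  rw [h, e.apply_symm_apply, MulAut.conjNormal_apply]

theorem toAut_coe (s : S) : toAut N e (e s : G) = MulAut.conj s := by
  apply MulEquiv.ext
  intro x
  apply e.injective
  apply Subtype.ext
  rw [toAut_apply, MulAut.conj_apply, map_mul, map_mul, map_inv]
  rfl

theorem toAut_injective (hC : centralizer (N : Set G) = ⊥) : Function.Injective (toAut N e) := by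
  rw [← MonoidHom.ker_eq_bot_iff, eq_bot_iff]
  intro g hg
  rw [Subgroup.mem_bot, ← Subgroup.mem_bot, ← hC, mem_centralizer_iff]
  intro n hn
  have h1 := toAut_apply N e g (e.symm ⟨n, hn⟩)
  rw [MonoidHom.mem_ker.1 hg, MulAut.one_apply, e.apply_symm_apply] at h1
  have h2 : n = g * n * g⁻¹ := h1
  calc n * g = g * n * g⁻¹ * g := by rw [← h2]
    _ = g * n := by group

theorem toAut_bijective [Finite G] [Finite S] (h2 : (MulAut.conj : S →* MulAut S).range.index ≤ 2) (hN : N.index = 2)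
    (hC : centralizer (N : Set G) = ⊥) : Function.Bijective (toAut N e) := by
  have : Finite (MulAut S) := Finite.of_injective (fun f : MulAut S => (f : S → S)) fun a b hab =>
    MulEquiv.ext fun x => congrFun hab x
  refine (toAut_injective N e hC).bijective_of_nat_card_le ?_
  have h3 : Nat.card (MulAut.conj : S →* MulAut S).range ≤ Nat.card S :=
    Nat.card_le_card_of_surjective (MulAut.conj : S →* MulAut S).rangeRestrict
      (MulAut.conj : S →* MulAut S).rangeRestrict_surjective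
  rw [← (MulAut.conj : S →* MulAut S).range.card_mul_index, ← N.card_mul_index, hN, ← Nat.card_congr e.toEquiv]
  exact Nat.mul_le_mul h3 h2

end

/-- **Uniqueness.** -/
theorem exists_equiv {S : Type w} [Group S] [Finite S] (h2 : (MulAut.conj : S →* MulAut S).range.index ≤ 2)
    {A : Type v} [Group A] [Finite A] (M : Subgroup A) [M.Normal] (f : S ≃* M) (hM : M.index = 2)
    (hCM : centralizer (M : Set A) = ⊥) {G : Type u} [Group G] [Finite G] (N : Subgroup G) [N.Normal] (e : S ≃* N)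
    (hN : N.index = 2) (hC : centralizer (N : Set G) = ⊥) : ∃ E : A ≃* G, ∀ s ∈ M, E s ∈ N := by
  let a := MulEquiv.ofBijective (toAut M f) (toAut_bijective M f h2 hM hCM)
  let b := MulEquiv.ofBijective (toAut N e) (toAut_bijective N e h2 hN hC)
  refine ⟨a.trans b.symm, fun s hs => ?_⟩
  have h3 : (a.trans b.symm) s = (e (f.symm ⟨s, hs⟩) : G) := by
    rw [MulEquiv.trans_apply, MulEquiv.symm_apply_eq]
    have h4 : b (e (f.symm ⟨s, hs⟩) : G) = MulAut.conj (f.symm ⟨s, hs⟩) := toAut_coe N e _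
    have h5 : a (f (f.symm ⟨s, hs⟩) : A) = MulAut.conj (f.symm ⟨s, hs⟩) := toAut_coe M f _
    rw [f.apply_symm_apply] at h5
    rw [h4, ← h5]
  rw [h3]
  exact (e _).2

end Cfsg.Agent.H710.R4
end

-- part: H710/R4/Three
section
set_option linter.all false
open scoped Cfsg.Agent.FastGrp

/-!
# Three real degrees from a real element of order `p ≡ 3 (mod 4)` and a real character of odd degree divisible by `p`
-/

set_option autoImplicit false

namespace Cfsg.Agent.H710.R4

open Cfsg Cfsg.Agent.Characters Cfsg.Agent.H619.R4 Cfsg.Agent.H686.CharKit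

universe u v

theorem not_sq_dvd {G : Type u} [Group G] [Finite G] (N : Subgroup G) (h2 : N.index ≤ 2) {p : ℕ} (hp : p.Prime)
    (hp2 : p ≠ 2) (hsq : ¬ p ^ 2 ∣ Nat.card N) : ¬ p ^ 2 ∣ Nat.card G := by
  intro h
  apply hsq
  rw [← N.card_mul_index] at h
  refine Nat.Coprime.dvd_of_dvd_mul_right (Nat.Coprime.pow_left 2 ?_) h
  have hpos : N.index ≠ 0 := Subgroup.index_ne_zero_of_finite
  rw [hp.coprime_iff_not_dvd]
  intro hd
  have h3 := Nat.le_of_dvd (Nat.pos_of_ne_zero hpos) hd
  have h4 := hp.two_le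
  omega

/-- **The criterion for index at most two.** -/
theorem r3_of_odd {G : Type u} [Group G] [Finite G] (N : Subgroup G) [N.Normal] [IsSimpleGroup N]
    (hna : ¬ IsMulCommutative N) (h2 : N.index ≤ 2) {p : ℕ} (hp : p.Prime) (hp4 : p % 4 = 3)
    (hsq : ¬ p ^ 2 ∣ Nat.card N) {x t : N} (hx : orderOf x = p) (htx : t * x * t⁻¹ = x⁻¹) {θ : N → ℂ}
    (hθ : IsIrrCharacter N θ) (hr : ∀ n, (θ n).im = 0) {d : ℕ} (hd : θ 1 = d) (hodd : Odd d) (hpd : p ∣ d) :
    R3 G N := by
  have hp2 : p ≠ 2 := by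
    rintro rfl
    norm_num at hp4
  have hx' : orderOf (x : G) = p := by rw [Subgroup.orderOf_coe, hx]
  have htx' : (t : G) * x * (t : G)⁻¹ = (x : G)⁻¹ := congrArg (fun y : N => (y : G)) htx
  have hinv : IsConj (x : G) (x : G)⁻¹ := isConj_iff.2 ⟨t, htx'⟩
  have hsqG := not_sq_dvd N h2 hp hp2 hsq
  obtain ⟨b, hb, hpb, hRb⟩ := Cfsg.Agent.H90.R4.Prime.prime_even hp hp2 hsqG hx' hinv N (commutator_le_of_index N h2)
  obtain ⟨a, ha, hpa, hRa⟩ := Cfsg.Agent.H90.R4.Prime.prime_odd hp hp2 hsqG hx' hinv N x.2 odd_one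
    (index_eq_relIndex N h2 hp hp4 hsq hx' x.2 t.2 htx')
  have h1 : d ≠ 1 := by
    rintro rfl
    exact hp.one_lt.ne' (Nat.dvd_one.1 hpd)
  have hab : a ≠ b := by
    rintro rfl
    exact Nat.not_even_iff_odd.2 ha hb
  rcases lift N hna h2 hθ hr hd hodd h1 with h | h
  · refine ⟨a, b, d, hab, ?_, ?_, hRa, hRb, h⟩
    · rintro rfl
      exact hpa hpd
    · rintro rfl
      exact hpb hpd
  · refine ⟨a, b, 2 * d, hab, ?_, ?_, hRa, hRb, h⟩
    · rintro rfl
      exact hpa (hpd.mul_left 2)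
    · rintro rfl
      exact hpb (hpd.mul_left 2)

theorem not_comm_of_real {S : Type*} [Group S] {p : ℕ} (hp : p.Prime) (hp2 : p ≠ 2) (hx : H722.RealP.HasReal p S) :
    ¬ IsMulCommutative S := by
  rintro ⟨⟨hc⟩⟩
  obtain ⟨x, t, hx, -, htx⟩ := hx
  have h1 : x = x⁻¹ := by
    rw [← htx, hc t x, mul_inv_cancel_right]
  have h2 : x ^ 2 = 1 := by
    rw [pow_two]
    nth_rewrite 2 [h1]
    exact mul_inv_cancel x
  have h3 := orderOf_dvd_of_pow_eq_one h2
  rw [hx] at h3
  exact hp2 ((Nat.prime_dvd_prime_iff_eq hp Nat.prime_two).1 h3)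

/-- the criterion, transported from a model -/
theorem r3_of_model {S : Type*} [Group S] [Finite S] [hs : IsSimpleGroup S] {G : Type u}
    [Group G] [Finite G] (N : Subgroup G) [N.Normal] (e : S ≃* N) (hC : Subgroup.centralizer (N : Set G) = ⊥)
    (h2 : (MulAut.conj : S →* MulAut S).range.index ≤ 2) {p : ℕ} (hp : p.Prime) (hp4 : p % 4 = 3)
    (hsq : ¬ p ^ 2 ∣ Nat.card S) (hx : H722.RealP.HasReal p S) {d : ℕ}
    (hχ : ∃ χ : S → ℂ, IsIrrCharacter S χ ∧ (∀ g, ∃ q : ℚ, χ g = q) ∧ χ 1 = (d : ℕ)) (hodd : Odd d) (hpd : p ∣ d) :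
    R3 G N := by
  have hna := not_comm_of_real hp (by rintro rfl; norm_num at hp4) hx
  have hsN : IsSimpleGroup N := MulEquiv.isSimpleGroup e.symm
  have hnaN : ¬ IsMulCommutative N := by
    intro h
    apply hna
    refine ⟨⟨fun a b => e.injective ?_⟩⟩
    rw [map_mul, map_mul]
    exact h.is_comm.comm _ _
  obtain ⟨x, t, hx, -, htx⟩ := hx
  obtain ⟨χ, hχ, hq, hd⟩ := hχ
  refine r3_of_odd N hnaN (index_le_of_equiv N e hC h2) hp hp4 (by rw [← Nat.card_congr e.toEquiv]; exact hsq)
    (x := e x) (t := e t) (by rw [MulEquiv.orderOf_eq, hx]) ?_ (θ := χ ∘ e.symm.toMonoidHom)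
    (Core.isIrr_comp e.symm.toMonoidHom e.symm.surjective hχ) ?_ (d := d) ?_ hodd hpd
  · rw [← map_mul, ← map_inv, ← map_mul, htx, map_inv]
  · intro n
    exact H707.OddLift.im_eq_zero_of_rat (hq _)
  · show χ (e.symm.toMonoidHom 1) = d
    rw [map_one]
    exact hd

/-- transport along an isomorphism -/
theorem RD_equiv {S : Type u} {G : Type v} [Group S] [Group G] [Finite S] [Finite G] (e : S ≃* G) {M : Subgroup S}
    {N : Subgroup G} (hN : ∀ s ∈ M, e s ∈ N) {d : ℕ} (h : RD S M d) : RD G N d := by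
  obtain ⟨χ, hr, ⟨n, hn, hne⟩, hd⟩ := h
  refine ⟨⟨(χ : S → ℂ) ∘ e.symm.toMonoidHom, Core.isIrr_comp e.symm.toMonoidHom e.symm.surjective χ.2⟩,
    fun g => hr _, ⟨e n, hN n hn, ?_⟩, charDegree_of _ ?_⟩
  · show (χ : S → ℂ) (e.symm (e n)) ≠ (χ : S → ℂ) (e.symm 1)
    rw [e.symm_apply_apply, map_one]
    exact hne
  · show (χ : S → ℂ) (e.symm 1) = d
    rw [map_one, ← hd, charDegree_irr]

theorem R3_equiv {S : Type u} {G : Type v} [Group S] [Group G] [Finite S] [Finite G] (e : S ≃* G) {M : Subgroup S}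
    {N : Subgroup G} (hN : ∀ s ∈ M, e s ∈ N) (h : R3 S M) : R3 G N := by
  obtain ⟨a, b, c, h1, h2, h3, ha, hb, hc⟩ := h
  exact ⟨a, b, c, h1, h2, h3, RD_equiv e hN ha, RD_equiv e hN hb, RD_equiv e hN hc⟩

end Cfsg.Agent.H710.R4
end

-- part: H710/R4/RowHe
section
set_option linter.all false
open scoped Cfsg.Agent.FastGrp

-- part: H710/R4/HeA
section
/-!
# The automorphism group of the Held group on 2058 points: rational characters of degree 680 and 1275 (helper710)
-/

set_option autoImplicit false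
set_option maxRecDepth 100000

namespace Cfsg.Agent.H710.R4.HeA

open Cfsg Cfsg.Spor Cfsg.Spor.He Cfsg.Agent.SporadicB.HePerm Cfsg.Agent.H707.Odd
open Cfsg.Agent.H707.Odd.He (labN w w_act rn rn_lt beq_iff)
open Cfsg.Agent.H710.R4.HeT

/-- the automorphism group of the Held group -/
def A : Subgroup (Equiv.Perm (Fin 2058)) where
  carrier := {p | p ∈ phi.range ∨ T * p ∈ phi.range}
  one_mem' := Or.inl (one_mem _)
  mul_mem' := by
    rintro a b (ha | ha) (hb | hb)
    · exact Or.inl (mul_mem ha hb)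
    · right
      have h : T * (a * b) = (T * a * T) * (T * b) := by
        calc T * (a * b) = T * a * ((1 : Equiv.Perm (Fin 2058)) * b) := by rw [one_mul, mul_assoc]
          _ = T * a * ((T * T) * b) := by rw [T_mul_self]
          _ = (T * a * T) * (T * b) := by group
      rw [h]
      exact mul_mem (T_norm ha) hb
    · right
      rw [← mul_assoc]
      exact mul_mem ha hb
    · left
      have h : a * b = (T * (T * a) * T) * (T * b) := by
        calc a * b = (1 : Equiv.Perm (Fin 2058)) * a * ((1 : Equiv.Perm (Fin 2058)) * b) := by rw [one_mul, one_mul]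
          _ = (T * T) * a * ((T * T) * b) := by rw [T_mul_self]
          _ = (T * (T * a) * T) * (T * b) := by group
      rw [h]
      exact mul_mem (T_norm ha) hb
  inv_mem' := by
    rintro a (ha | ha)
    · exact Or.inl (inv_mem ha)
    · right
      have h : T * a⁻¹ = T * (T * a)⁻¹ * T := by
        calc T * a⁻¹ = T * a⁻¹ * (T⁻¹ * T) := by group
          _ = T * (T * a)⁻¹ * T := by group
      rw [h]
      exact T_norm (inv_mem ha)

theorem range_le : phi.range ≤ A := fun _ h => Or.inl h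

theorem T_mem : T ∈ A := Or.inr (by rw [T_mul_self]; exact one_mem _)

/-- the Held group -/
noncomputable def Nh : Subgroup A := phi.range.subgroupOf A

instance : Nh.Normal := ⟨by
  rintro ⟨n, hn'⟩ hn ⟨g, hg⟩
  have hn1 : n ∈ phi.range := Subgroup.mem_subgroupOf.1 hn
  refine Subgroup.mem_subgroupOf.2 ?_
  show g * n * g⁻¹ ∈ phi.range
  rcases hg with hg | hg
  · exact mul_mem (mul_mem hg hn1) (inv_mem hg)
  · have h : g * n * g⁻¹ = T * ((T * g) * n * (T * g)⁻¹) * T := by
      calc g * n * g⁻¹ = (1 : Equiv.Perm (Fin 2058)) * g * n * g⁻¹ * 1 := by rw [one_mul, mul_one]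
        _ = (T * T) * g * n * g⁻¹ * (T⁻¹ * T) := by rw [T_mul_self, inv_mul_cancel]
        _ = T * ((T * g) * n * (T * g)⁻¹) * T := by group
    rw [h]
    exact T_norm (mul_mem (mul_mem hg hn1) (inv_mem hg))⟩

theorem index_Nh : Nh.index = 2 := by
  rw [Subgroup.index_eq_two_iff]
  refine ⟨⟨T, T_mem⟩, ?_⟩
  rintro ⟨b, hb⟩
  have hT : ∀ b : Equiv.Perm (Fin 2058), b * T ∈ phi.range ↔ T * b ∈ phi.range := by
    intro b
    have e1 : T * (b * T) * T = T * b := by
      calc T * (b * T) * T = T * b * (T * T) := by group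
        _ = T * b := by rw [T_mul_self, mul_one]
    have e2 : T * (T * b) * T = b * T := by
      calc T * (T * b) * T = (T * T) * b * T := by group
        _ = b * T := by rw [T_mul_self, one_mul]
    exact ⟨fun h => e1 ▸ T_norm h, fun h => e2 ▸ T_norm h⟩
  show Xor (b * T ∈ phi.range) (b ∈ phi.range)
  rw [hT]
  rcases hb with hb | hb
  · exact Or.inr ⟨hb, fun h => T_not_mem (by simpa using mul_mem h (inv_mem hb))⟩
  · exact Or.inl ⟨hb, fun h => T_not_mem (by simpa using mul_mem hb (inv_mem h))⟩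

/-! ### The action -/

theorem smul_def (g : A) (i : Fin 2058) : g • i = (g : Equiv.Perm (Fin 2058)) i := rfl

/-- the merged label -/
def mg (k : ℕ) : ℕ := Nat.sub k (Nat.div k 4)

theorem mg_lt {k : ℕ} (h : k < 5) : mg k < 4 := by interval_cases k <;> decide

def cls (i : Fin 2058) : Fin 4 := ⟨mg (lab i), mg_lt (lab_lt i)⟩

theorem cls_val (i : Fin 2058) : ((cls i : Fin 4) : ℕ) = mg (labN i) := rfl

theorem mgCheck : allBelow 2058 (fun i => Nat.beq (mg (labN (act ui (look tT i)))) (mg (labN i))) = true := by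
  decide +kernel

theorem cls_q (i : Fin 2058) : cls (q i) = cls i := by
  apply Fin.ext
  rw [cls_val, cls_val, q_apply]
  exact Nat.eq_of_beq_eq_true (of_allBelow mgCheck i i.2)

theorem cls_phi {p : Equiv.Perm (Fin 2058)} (hp : p ∈ phi.range) (h0 : p 0 = 0) (i : Fin 2058) : cls (p i) = cls i :=
  Fin.ext (by show mg (lab (p i)) = mg (lab i); rw [lab_of_fix hp h0])

theorem q_mem : q ∈ A := A.mul_mem (range_le ⟨_, rfl⟩) T_mem

theorem cls_fix (g : A) (h0 : g • (0 : Fin 2058) = 0) (i : Fin 2058) : cls (g • i) = cls i := by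
  rw [smul_def] at h0 ⊢
  obtain ⟨g, hg⟩ := g
  rcases hg with hg | hg
  · exact cls_phi hg h0 i
  · -- `g = p q`
    have h1 : g * q⁻¹ ∈ phi.range := by
      have e : g * q⁻¹ = T * (T * g) * T * (phi (wd ui))⁻¹ := by
        rw [q, mul_inv_rev, T_inv]
        calc g * (T * (phi (wd ui))⁻¹) = (1 : Equiv.Perm (Fin 2058)) * g * T * (phi (wd ui))⁻¹ := by group
          _ = (T * T) * g * T * (phi (wd ui))⁻¹ := by rw [T_mul_self]
          _ = _ := by group
      rw [e]
      exact mul_mem (T_norm hg) (inv_mem ⟨_, rfl⟩)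
    have h2 : (g * q⁻¹) 0 = 0 := by
      have e : q⁻¹ 0 = 0 := by
        rw [Equiv.Perm.inv_eq_iff_eq, q_zero]
      rw [Equiv.Perm.mul_apply, e]
      exact h0
    have h3 := cls_phi h1 h2 (q i)
    have e5 : q⁻¹ (q i) = i := q.symm_apply_apply i
    rw [cls_q, Equiv.Perm.mul_apply, e5] at h3
    exact h3

/-- the representatives -/
def r (i : Fin 4) : Fin 2058 := ⟨rn i.castSucc, rn_lt i.castSucc⟩

theorem r_eq (i : Fin 4) : r i = root i := by fin_cases i <;> rfl

theorem exists_K (x : Fin 2058) : ∃ p ∈ phi.range, p 0 = 0 ∧ p (root (lab x)) = x := by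
  obtain ⟨p, hp, hpx⟩ := reach_sub (lab x) (lab_lt x) (S1683.K.map phi) (fun w hw => S1683.word_mem hw) x
    ((mem_sub _ (lab_lt x) x).2 rfl)
  refine ⟨p, ?_, S1683.fix_zero hp, hpx⟩
  obtain ⟨g, -, rfl⟩ := hp
  exact ⟨g, rfl⟩

theorem exists_fix (x : Fin 2058) : ∃ g : A, g • (0 : Fin 2058) = 0 ∧ g • r (cls x) = x := by
  obtain ⟨p, hp, hp0, hpx⟩ := exists_K x
  by_cases h4 : lab x = 4
  · -- use `q`
    have h1 : r (cls x) = r 3 := by
      congr 1
      apply Fin.ext
      show mg (lab x) = 3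
      rw [h4]
      rfl
    have hr3 : (r 3 : Fin 2058) = H707.Odd.He.r 3 := rfl
    obtain ⟨p', hp', hp0', hpx'⟩ := exists_K (q (r 3))
    rw [hr3, q_37] at hpx'
    rw [h4] at hpx
    refine ⟨⟨p * p'⁻¹ * q, A.mul_mem (A.mul_mem (range_le hp) (A.inv_mem (range_le hp'))) q_mem⟩, ?_, ?_⟩
    · rw [smul_def]
      show p (p'⁻¹ (q 0)) = 0
      rw [q_zero]
      have e : p'⁻¹ 0 = 0 := by rw [Equiv.Perm.inv_eq_iff_eq, hp0']
      rw [e, hp0]
    · rw [smul_def, h1, hr3]
      show p (p'⁻¹ (q (H707.Odd.He.r 3))) = x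
      have e : p'⁻¹ (q (H707.Odd.He.r 3)) = root 4 := by rw [Equiv.Perm.inv_eq_iff_eq, hpx']
      rw [e, hpx]
  · refine ⟨⟨p, range_le hp⟩, hp0, ?_⟩
    rw [smul_def]
    show p (r (cls x)) = x
    have h5 : lab x < 4 := by
      have := lab_lt x
      omega
    have h1 : r (cls x) = root (lab x) := by
      rw [r_eq]
      congr 1
      show mg (lab x) = lab x
      generalize lab x = k at h5
      interval_cases k <;> rfl
    rw [h1, hpx]

/-- the elements -/
noncomputable def γ (i : Fin 4) : A := ⟨phi (wd (w i.castSucc)), range_le ⟨_, rfl⟩⟩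

theorem γ_apply (i : Fin 4) (z : Fin 2058) : ((γ i • z : Fin 2058) : ℕ) = act (w i.castSucc) z := phi_wd_apply _ z

theorem γ_zero (i : Fin 4) : γ i • (0 : Fin 2058) = r i := by
  apply Fin.ext
  rw [γ_apply]
  exact Nat.eq_of_beq_eq_true (w_act i.castSucc)

/-- the collapsed matrix -/
def B : Fin 4 → Fin 4 → ℕ := ![![0, 0, 0, 272], ![0, 180, 60, 32], ![0, 192, 32, 48], ![1, 160, 75, 36]]

theorem B_check : ∀ i j : Fin 4, Nat.beq (cnt (fun z => and (Nat.beq (mg (labN z)) 3)
    (Nat.beq (mg (labN (act (w i.castSucc) z))) j)) 2058) (B i j) = true := by decide +kernel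

theorem hB (i j : Fin 4) : (Finset.univ.filter fun z : Fin 2058 => cls z = 3 ∧ cls (γ i • z) = j).card = B i j := by
  rw [← Nat.eq_of_beq_eq_true (B_check i j), ← card_filter_fin]
  congr 1
  ext z
  rw [Finset.mem_filter, Finset.mem_filter, Bool.and_eq_true]
  have h1 : cls z = 3 ↔ Nat.beq (mg (labN z)) 3 = true := by
    rw [Fin.ext_iff, cls_val]
    exact beq_iff.symm
  have h2 : cls (γ i • z) = j ↔ Nat.beq (mg (labN (act (w i.castSucc) z))) j = true := by
    rw [Fin.ext_iff, cls_val, γ_apply]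
    exact beq_iff.symm
  rw [h1, h2]

/-- the sizes -/
def k : Fin 4 → ℕ := ![1, 1360, 425, 272]

theorem k_check : ∀ i : Fin 4, Nat.beq (cnt (fun z => Nat.beq (mg (labN z)) i) 2058) (k i) = true := by decide +kernel

theorem hk (i : Fin 4) : (Finset.univ.filter fun y : Fin 2058 => cls y = i).card = k i := by
  rw [← Nat.eq_of_beq_eq_true (k_check i), ← card_filter_fin]
  congr 1
  ext z
  rw [Finset.mem_filter, Finset.mem_filter, Fin.ext_iff, cls_val]
  rw [beq_iff]

theorem trans (x y : Fin 2058) : ∃ g : A, g • x = y := by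
  obtain ⟨g, hg⟩ := S1683.exists_map_zero x
  obtain ⟨h, hh⟩ := S1683.exists_map_zero y
  refine ⟨⟨phi (h * g⁻¹), range_le ⟨_, rfl⟩⟩, ?_⟩
  rw [smul_def]
  show phi (h * g⁻¹) x = y
  rw [map_mul, map_inv, ← hg, ← hh, Equiv.Perm.mul_apply]
  exact congrArg (phi h) ((phi g).symm_apply_apply 0)

theorem cls_zero : cls 0 = 0 := by decide +kernel

/-- the eigenvectors -/
def a1 : Fin 4 → ℚ := ![1, -13 / 680, 1 / 85, 5 / 68]
def a2 : Fin 4 → ℚ := ![1, 1 / 85, -9 / 425, -1 / 34]

theorem hBa1 : ∀ i, ∑ j, (B i j : ℚ) * a1 j = 20 * a1 i := by decide +kernel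
theorem hBa2 : ∀ i, ∑ j, (B i j : ℚ) * a2 j = -8 * a2 i := by decide +kernel
theorem hsum1 : (680 : ℚ) * ∑ i, (k i : ℚ) * a1 i ^ 2 = 2058 := by decide +kernel
theorem hsum2 : (1275 : ℚ) * ∑ i, (k i : ℚ) * a2 i ^ 2 = 2058 := by decide +kernel

theorem huniq1 (a' : Fin 4 → ℚ) (h : ∀ i, ∑ j, (B i j : ℚ) * a' j = 20 * a' i) (i : Fin 4) : a' i = a' 0 * a1 i := by
  have h0 := h 0
  have h1 := h 1
  have h2 := h 2
  have h3 := h 3
  simp only [B, Fin.sum_univ_four, Matrix.cons_val] at h0 h1 h2 h3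
  norm_num at h0 h1 h2 h3
  fin_cases i
  · show a' 0 = a' 0 * 1
    rw [mul_one]
  · show a' 1 = a' 0 * (-13 / 680)
    linarith
  · show a' 2 = a' 0 * (1 / 85)
    linarith
  · show a' 3 = a' 0 * (5 / 68)
    linarith

theorem huniq2 (a' : Fin 4 → ℚ) (h : ∀ i, ∑ j, (B i j : ℚ) * a' j = -8 * a' i) (i : Fin 4) : a' i = a' 0 * a2 i := by
  have h0 := h 0
  have h1 := h 1
  have h2 := h 2
  have h3 := h 3
  simp only [B, Fin.sum_univ_four, Matrix.cons_val] at h0 h1 h2 h3
  norm_num at h0 h1 h2 h3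
  fin_cases i
  · show a' 0 = a' 0 * 1
    rw [mul_one]
  · show a' 1 = a' 0 * (1 / 85)
    linarith
  · show a' 2 = a' 0 * (-9 / 425)
    linarith
  · show a' 3 = a' 0 * (-1 / 34)
    linarith

instance : Finite A := inferInstance

/-- **degree 680** -/
theorem irr1 : ∃ χ : A → ℂ, IsIrrCharacter A χ ∧ (∀ g, ∃ q : ℚ, χ g = q) ∧ χ 1 = (680 : ℕ) := by
  refine Sph.irr_of_orbital (0 : Fin 2058) cls r cls_fix exists_fix 3 γ γ_zero B hB a1 20 hBa1 ?_ ?_ trans k hk 680 ?_
  · intro a' h i
    rw [cls_zero]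
    exact huniq1 a' h i
  · rw [cls_zero]
    rfl
  · rw [Fintype.card_fin]
    exact_mod_cast hsum1

/-- **degree 1275** -/
theorem irr2 : ∃ χ : A → ℂ, IsIrrCharacter A χ ∧ (∀ g, ∃ q : ℚ, χ g = q) ∧ χ 1 = (1275 : ℕ) := by
  refine Sph.irr_of_orbital (0 : Fin 2058) cls r cls_fix exists_fix 3 γ γ_zero B hB a2 (-8) hBa2 ?_ ?_ trans k hk 1275 ?_
  · intro a' h i
    rw [cls_zero]
    exact huniq2 a' h i
  · rw [cls_zero]
    rfl
  · rw [Fintype.card_fin]
    exact_mod_cast hsum2

end Cfsg.Agent.H710.R4.HeA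
end

-- part: H710/R4/HeReal
section
/-!
# The Held group: a real element of order 17 and three real degrees of the automorphism group (helper710)
-/

set_option autoImplicit false
set_option maxRecDepth 100000

namespace Cfsg.Agent.H710.R4.HeA

open Cfsg Cfsg.Spor Cfsg.Spor.He Cfsg.Agent.SporadicB.HePerm
open Cfsg.Agent.HeldHe.Model (eq_one_of_base okBase phi_inj)
open Cfsg.Agent.H710.R4.HeT Cfsg.Agent.Characters Cfsg.Agent.H619.R4

theorem wd_append (u v : List Gen) : wd (u ++ v) = wd u * wd v := by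
  rw [wd, wd, wd, List.map_append, List.prod_append]

theorem wd_eq_one {l : List Gen} (h : okBase (act l) = true) : wd l = 1 :=
  eq_one_of_base (fun i => phi_wd_apply l i) h

def ws : List Gen := [.d]
def wt : List Gen := [.c, .g, .d, .b, .c, .d, .c, .b, .d, .g, .c]

theorem ok_s : okBase (act (ws ++ ws)) = true := by decide +kernel
theorem ok_t : okBase (act (wt ++ wt)) = true := by decide +kernel
theorem ok_st : okBase (act (powWord (ws ++ wt) 17)) = true := by decide +kernel
theorem ne_st : Nat.beq (act (ws ++ wt) 0) 0 = false := by decide +kernel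

theorem real17 : H722.RealP.HasReal 17 Cfsg.Spor.He := by
  refine H661.Spor.HasReal_of_dihedral (by norm_num) (s := wd ws) (t := wd wt) ?_ ?_ ?_ ?_
  · rw [← wd_append]
    exact wd_eq_one ok_s
  · rw [← wd_append]
    exact wd_eq_one ok_t
  · rw [← wd_append]
    have h := wd_eq_one ok_st
    rw [wd, powWord_prod] at h
    exact h
  · rw [← wd_append]
    intro h
    have h1 := phi_wd_apply (ws ++ wt) 0
    rw [h, map_one] at h1
    have h2 := ne_st
    have h3 : act (ws ++ wt) 0 = 0 := h1.symm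
    rw [h3] at h2
    exact absurd h2 (by decide)

/-! ### Three degrees of the automorphism group -/

open Cfsg.Agent.H90.R4.Prime in
theorem RD_of_irr {G : Type*} [Group G] [Finite G] (N : Subgroup G) [N.Normal] (hab : commutator G ≤ N)
    {χ : G → ℂ} (hχ : IsIrrCharacter G χ) (hq : ∀ g, ∃ q : ℚ, χ g = q) {d : ℕ} (hd : χ 1 = d) (h1 : d ≠ 1) :
    RD G N d := by
  have h2 := charDegree_of ⟨χ, hχ⟩ hd
  refine ⟨⟨χ, hχ⟩, fun g => H707.OddLift.im_eq_zero_of_rat (hq g), ?_, h2⟩
  rw [← not_le_chKer_iff]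
  intro h
  have h3 := charDegree_of_le hab ⟨χ, hχ⟩ h
  exact h1 (h2.symm.trans h3)

theorem card_He : Nat.card Cfsg.Spor.He = 4030387200 := KFacts.He.Cent.card_He

noncomputable def eHe : Cfsg.Spor.He ≃* Nh :=
  (MonoidHom.ofInjective phi_inj).trans (Subgroup.subgroupOfEquivOfLe range_le).symm

theorem card_Nh : Nat.card Nh = 4030387200 := by
  rw [← Nat.card_congr eHe.toEquiv, card_He]

theorem fixCheck : allBelow 2058 (fun i => or (Nat.beq i 0) (wordsK.any fun w => not (Nat.beq (act w i) i))) = true := by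
  decide +kernel

theorem cent_Nh : Subgroup.centralizer (Nh : Set A) = ⊥ := by
  rw [eq_bot_iff]
  rintro ⟨p, hpA⟩ hp
  rw [Subgroup.mem_centralizer_iff] at hp
  have hc : ∀ g ∈ phi.range, g * p = p * g := fun g hg =>
    congrArg Subtype.val (hp ⟨g, range_le hg⟩ (Subgroup.mem_subgroupOf.2 hg))
  have h0 : p 0 = 0 := by
    have h1 := of_allBelow fixCheck (p 0 : Fin 2058) (p 0 : Fin 2058).2
    rw [Bool.or_eq_true] at h1
    rcases h1 with h1 | h1
    · exact Fin.ext (Nat.eq_of_beq_eq_true h1)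
    · exfalso
      rw [List.any_eq_true] at h1
      obtain ⟨w, hw, hne⟩ := h1
      have h2 : (w.map pm).prod ∈ phi.range := ⟨wd w, phi_wd w⟩
      have h3 : (w.map pm).prod (p 0) = p 0 := by
        have h4 := congrArg (fun f : Equiv.Perm (Fin 2058) => f 0) (hc _ h2)
        have h5 : (w.map pm).prod (p 0) = p ((w.map pm).prod 0) := h4
        rw [h5, S1683.fix_zero (S1683.word_mem hw)]
      have h6 := prod_apply w (p 0)
      rw [h3] at h6
      rw [← h6, Nat.beq_refl] at hne
      exact absurd hne (by decide)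
  rw [Subgroup.mem_bot]
  apply Subtype.ext
  apply Equiv.ext
  intro i
  show p i = i
  obtain ⟨g, hg⟩ := S1683.exists_map_zero i
  have h4 := congrArg (fun f : Equiv.Perm (Fin 2058) => f 0) (hc _ ⟨g, rfl⟩)
  have h5 : phi g (p 0) = p (phi g 0) := h4
  rw [hg, h0, hg] at h5
  exact h5.symm

theorem r3_A : R3 A Nh := by
  have hsq : ¬ 17 ^ 2 ∣ Nat.card A := by
    refine not_sq_dvd Nh index_Nh.le (by norm_num) (by norm_num) ?_
    rw [card_Nh]
    norm_num
  have hab := commutator_le_of_index Nh index_Nh.le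
  obtain ⟨x, t, hx, -, htx⟩ := real17
  let F : Cfsg.Spor.He →* A := phi.codRestrict A fun g => range_le ⟨g, rfl⟩
  have hF : Function.Injective F := fun a b h => phi_inj (congrArg Subtype.val h)
  have hx' : orderOf (F x) = 17 := by rw [orderOf_injective F hF, hx]
  have hinv : IsConj (F x) (F x)⁻¹ := isConj_iff.2 ⟨F t, by rw [← map_inv, ← map_mul, ← map_mul, htx, map_inv]⟩
  obtain ⟨b, hb, hpb, hRb⟩ := Cfsg.Agent.H90.R4.Prime.prime_even (by norm_num) (by norm_num) hsq hx' hinv Nh hab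
  obtain ⟨χ1, h1, q1, d1⟩ := irr1
  obtain ⟨χ2, h2, q2, d2⟩ := irr2
  refine ⟨b, 680, 1275, ?_, ?_, by norm_num, hRb, RD_of_irr Nh hab h1 q1 d1 (by norm_num),
    RD_of_irr Nh hab h2 q2 d2 (by norm_num)⟩
  · rintro rfl
    exact hpb (by norm_num)
  · rintro rfl
    exact hpb (by norm_num)

/-! ### Three degrees of the Held group -/

theorem r3_He : R3 Cfsg.Spor.He ⊤ := by
  obtain ⟨hfin, -⟩ := Cfsg.Agent.SporadicB.HeUpper.card_he_le
  have hsq : ¬ 17 ^ 2 ∣ Nat.card Cfsg.Spor.He := by
    rw [card_He]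
    norm_num
  obtain ⟨x, t, hx, -, htx⟩ := real17
  have hinv : IsConj x x⁻¹ := isConj_iff.2 ⟨t, htx⟩
  obtain ⟨b, hb, hpb, hRb⟩ := Cfsg.Agent.H90.R4.Prime.prime_even (by norm_num) (by norm_num) hsq hx hinv ⊤ le_top
  obtain ⟨a, ha, hpa, hRa⟩ := Cfsg.Agent.H90.R4.Prime.prime_odd (by norm_num) (by norm_num) hsq hx hinv ⊤
    (Subgroup.mem_top _) odd_one (by rw [Subgroup.index_top, Subgroup.relIndex_top_left, mul_one])
  obtain ⟨χ, h1, q1, d1⟩ := irr_He
  refine ⟨a, b, 1275, ?_, ?_, ?_, hRa, hRb, RD_of_irr ⊤ le_top h1 q1 d1 (by norm_num)⟩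
  · rintro rfl
    exact Nat.not_even_iff_odd.2 ha hb
  · rintro rfl
    exact hpa (by norm_num)
  · rintro rfl
    exact hpb (by norm_num)

end Cfsg.Agent.H710.R4.HeA
end

-- part: H710/R4/RowHe
section
/-!
# S4554, the row `He` (helper710)
-/

set_option autoImplicit false

namespace Cfsg.Agent.H710.R4

open Cfsg Cfsg.Agent.H619.R4 Cfsg.Agent.H710.R4.HeA

universe u

theorem row_he {S : Type u} [Group S] (h : Spor.IsoHe S) : H619.R4.Row S := by
  intro G _ _ N _ ⟨e⟩ hC _
  obtain ⟨f⟩ := h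
  obtain ⟨hfin, -⟩ := Cfsg.Agent.SporadicB.HeUpper.card_he_le
  have hi : (MulAut.conj : Spor.He →* MulAut Spor.He).range.index ≤ 2 := by
    rcases KFacts.He.Outer.index_le_two (K := Spor.He) ⟨MulEquiv.refl _⟩ with h1 | h1
    · rw [h1]; norm_num
    · rw [h1]
  have hN : N.index ≤ 2 := index_le_of_equiv N (f.symm.trans e) hC hi
  have hpos : N.index ≠ 0 := Subgroup.index_ne_zero_of_finite
  have hcase : N.index = 1 ∨ N.index = 2 := by omega
  rcases hcase with h1 | h1
  · have htop : N = ⊤ := Subgroup.index_eq_one.1 h1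
    let E : Spor.He ≃* G := (f.symm.trans e).trans ((MulEquiv.subgroupCongr htop).trans Subgroup.topEquiv)
    exact R3_equiv E (fun s _ => by rw [htop]; exact Subgroup.mem_top _) r3_He
  · obtain ⟨E, hE⟩ := exists_equiv hi Nh eHe index_Nh cent_Nh N (f.symm.trans e) h1 hC
    exact R3_equiv E hE r3_A

end Cfsg.Agent.H710.R4
end

private theorem dce_5940f2deed09 : _root_.True := by
  try have : _root_.True := by simp only [_root_.Cfsg.Agent.H710.R4.HeA.B.eq_1]
  try have : _root_.True := by simp only [_root_.Cfsg.Agent.H710.R4.HeT.q.eq_1]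
  exact _root_.True.intro
end
end
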